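import Cfsg.Agent.H37.Isog.Basic
import Cfsg.Prelude.Def_ChevF4

/-! Machine-generated special isogeny tables of type F4 (see `Isog/Basic.lean`). -/
set_option autoImplicit false

namespace Cfsg.Agent.H37.Isog

/-- The tables. -/
def dataF4 : Data where
  p := 2
  e1 := [0, 1, 7, 11, 12, 13, 14, 15, 16, 17, 18, 22, 23, 24, 31, 32, 33, 37, 38, 39, 40, 41, 42, 43, 44, 48]
  e2 := [3, 2, 4, 5, 6, 8, 19, 9, 20, 25, 27, 10, 21, 26, 29, 34, 45, 28, 30, 35, 46, 36, 47, 49, 50, 51]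
  rho := [3, 7, 8, 0, 9, 11, 18, 1, 2, 4, 15, 5, 16, 21, 23, 10, 12, 19, 6, 17, 22, 13, 20, 14, 33, 27, 34, 25, 30, 41, 28, 35, 37, 24, 26, 31, 42, 32, 43, 45, 46, 29, 36, 38, 47, 39, 40, 44]
  lam := [1, 1, 1, 2, 1, 1, 1, 2, 2, 2, 2, 2, 2, 2, 2, 1, 1, 1, 2, 2, 2, 1, 1, 1, 1, 1, 1, 2, 2, 2, 1, 1, 1, 2, 2, 2, 2, 2, 2, 2, 2, 1, 1, 1, 2, 1, 1, 1]

theorem goodF4 : Good dataF4 Cfsg.Lie.chevF4 := ⟨by decide +kernel⟩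

end Cfsg.Agent.H37.Isog
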