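import Cfsg.Agent.H37.Isog.Basic
import Cfsg.Prelude.Def_ChevG2

/-! Machine-generated special isogeny tables of type G2 (see `Isog/Basic.lean`). -/
set_option autoImplicit false

namespace Cfsg.Agent.H37.Isog

/-- The tables. -/
def dataG2 : Data where
  p := 3
  e1 := [0, 4, 5, 6, 9, 10, 11]
  e2 := [1, 2, 3, 7, 8, 12, 13]
  rho := [2, 3, 0, 1, 5, 4, 7, 6, 10, 11, 8, 9]
  lam := [1, 1, 3, 3, 3, 1, 1, 3, 3, 3, 1, 1]

theorem goodG2 : Good dataG2 Cfsg.Lie.chevG2 := ⟨by decide +kernel⟩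

end Cfsg.Agent.H37.Isog
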