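import Cfsg.Agent.H37.Isog.Basic
import Cfsg.Prelude.Def_ChevB2

/-! Machine-generated special isogeny tables of type B2 (see `Isog/Basic.lean`). -/
set_option autoImplicit false

namespace Cfsg.Agent.H37.Isog

/-- The tables. -/
def dataB2 : Data where
  p := 2
  e1 := [0, 3, 4, 7, 8]
  e2 := [1, 2, 5, 6, 9]
  rho := [1, 0, 3, 2, 5, 4, 7, 6]
  lam := [1, 2, 2, 1, 1, 2, 2, 1]

theorem goodB2 : Good dataB2 Cfsg.Lie.chevB2 := ⟨by decide +kernel⟩

end Cfsg.Agent.H37.Isog
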