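import Cfsg.Agent.H37.Isog.Inj
import Cfsg.Agent.H37.Isog.B2
import Cfsg.Agent.H37.Isog.F4
import Cfsg.Agent.H37.Isog.G2
import Cfsg.Agent.H37.Chev.All
import Cfsg.Prelude.Def_LieTwisted

/-!
The special isogenies of `B₂`, `F₄` (characteristic 2) and `G₂` (characteristic 3) are
automorphisms over perfect fields.
-/
set_option autoImplicit false
set_option maxRecDepth 100000

namespace Cfsg.Agent.H37.Isog

open Cfsg.Lie

variable {F : Type*} [Field F]

theorem injB2 [CharP F 2] :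
    Function.Injective (goodB2.idealHom (F := F) (Chev.dataB2 F).ord) := by
  haveI : CharP F dataB2.p := (inferInstance : CharP F 2)
  obtain ⟨h1, h2, h3⟩ := (by decide +kernel :
    dataB2.c1 2 = chevB2.rank + 2 ∧ dataB2.c1 3 = chevB2.rank + Chevalley.B2.tab.w 0 2 ∧
      Chevalley.B2.tab.w 0 2 ≠ 2)
  exact goodB2.injective (Chev.dataB2 F) (i := 0) (a := 2) (b := 3) (r := 2) (show (0:ℕ) < 2 by decide)
    (by decide) (by decide) (by decide) h1 h2 h3

theorem injF4 [CharP F 2] :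
    Function.Injective (goodF4.idealHom (F := F) (Chev.dataF4 F).ord) := by
  haveI : CharP F dataF4.p := (inferInstance : CharP F 2)
  obtain ⟨h1, h2, h3⟩ := (by decide +kernel :
    dataF4.c1 2 = chevF4.rank + 3 ∧ dataF4.c1 3 = chevF4.rank + Chevalley.F4.tab.w 0 3 ∧
      Chevalley.F4.tab.w 0 3 ≠ 3)
  exact goodF4.injective (Chev.dataF4 F) (i := 0) (a := 2) (b := 3) (r := 3) (show (0:ℕ) < 4 by decide)
    (by decide) (by decide) (by decide) h1 h2 h3

theorem injG2 [CharP F 3] :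
    Function.Injective (goodG2.idealHom (F := F) (Chev.dataG2 F).ord) := by
  haveI : CharP F dataG2.p := (inferInstance : CharP F 3)
  obtain ⟨h1, h2, h3⟩ := (by decide +kernel :
    dataG2.c1 1 = chevG2.rank + 2 ∧ dataG2.c1 2 = chevG2.rank + Chevalley.G2.tab.w 0 2 ∧
      Chevalley.G2.tab.w 0 2 ≠ 2)
  exact goodG2.injective (Chev.dataG2 F) (i := 0) (a := 1) (b := 2) (r := 2) (show (0:ℕ) < 2 by decide)
    (by decide) (by decide) (by decide) h1 h2 h3

theorem autoB2 [CharP F 2] (hperf : ∀ x : F, ∃ y, y ^ 2 = x) :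
    ∃ α : ↥(chevB2.group F) ≃* ↥(chevB2.group F), ∀ (g : ↥(chevB2.group F)) (r : ℕ) (t : F),
      r < chevB2.nroots → ((g : GL chevB2.Idx F) : Matrix chevB2.Idx chevB2.Idx F) = chevB2.x F r t →
      ((α g : GL chevB2.Idx F) : Matrix chevB2.Idx chevB2.Idx F)
        = chevB2.x F (dataB2.rh r) (t ^ dataB2.lm r) := by
  haveI : CharP F dataB2.p := (inferInstance : CharP F 2)
  exact goodB2.exists_isogeny (Chev.dataB2 F).ord Nat.prime_two injB2 hperf

theorem autoF4 [CharP F 2] (hperf : ∀ x : F, ∃ y, y ^ 2 = x) :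
    ∃ α : ↥(chevF4.group F) ≃* ↥(chevF4.group F), ∀ (g : ↥(chevF4.group F)) (r : ℕ) (t : F),
      r < chevF4.nroots → ((g : GL chevF4.Idx F) : Matrix chevF4.Idx chevF4.Idx F) = chevF4.x F r t →
      ((α g : GL chevF4.Idx F) : Matrix chevF4.Idx chevF4.Idx F)
        = chevF4.x F (dataF4.rh r) (t ^ dataF4.lm r) := by
  haveI : CharP F dataF4.p := (inferInstance : CharP F 2)
  exact goodF4.exists_isogeny (Chev.dataF4 F).ord Nat.prime_two injF4 hperf

theorem autoG2 [CharP F 3] (hperf : ∀ x : F, ∃ y, y ^ 3 = x) :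
    ∃ α : ↥(chevG2.group F) ≃* ↥(chevG2.group F), ∀ (g : ↥(chevG2.group F)) (r : ℕ) (t : F),
      r < chevG2.nroots → ((g : GL chevG2.Idx F) : Matrix chevG2.Idx chevG2.Idx F) = chevG2.x F r t →
      ((α g : GL chevG2.Idx F) : Matrix chevG2.Idx chevG2.Idx F)
        = chevG2.x F (dataG2.rh r) (t ^ dataG2.lm r) := by
  haveI : CharP F dataG2.p := (inferInstance : CharP F 3)
  exact goodG2.exists_isogeny (Chev.dataG2 F).ord Nat.prime_three injG2 hperf

theorem simpB2 : ∀ i, i < chevB2.rank →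
    chevB2.simple i < chevB2.nroots ∧ chevB2.neg (chevB2.simple i) < chevB2.nroots ∧
    dataB2.rh (chevB2.simple i) = chevB2.simple (([(1, 2), (0, 1)] : List (ℕ × ℕ)).getD i (0, 1)).1 ∧
    dataB2.lm (chevB2.simple i) = (([(1, 2), (0, 1)] : List (ℕ × ℕ)).getD i (0, 1)).2 ∧
    dataB2.rh (chevB2.neg (chevB2.simple i))
      = chevB2.neg (chevB2.simple (([(1, 2), (0, 1)] : List (ℕ × ℕ)).getD i (0, 1)).1) ∧
    dataB2.lm (chevB2.neg (chevB2.simple i))
      = (([(1, 2), (0, 1)] : List (ℕ × ℕ)).getD i (0, 1)).2 := by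
  intro i hi
  exact (by decide +kernel : ∀ i : Fin 2,
    chevB2.simple i.val < chevB2.nroots ∧ chevB2.neg (chevB2.simple i.val) < chevB2.nroots ∧
    dataB2.rh (chevB2.simple i.val)
      = chevB2.simple (([(1, 2), (0, 1)] : List (ℕ × ℕ)).getD i.val (0, 1)).1 ∧
    dataB2.lm (chevB2.simple i.val) = (([(1, 2), (0, 1)] : List (ℕ × ℕ)).getD i.val (0, 1)).2 ∧
    dataB2.rh (chevB2.neg (chevB2.simple i.val))
      = chevB2.neg (chevB2.simple (([(1, 2), (0, 1)] : List (ℕ × ℕ)).getD i.val (0, 1)).1) ∧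
    dataB2.lm (chevB2.neg (chevB2.simple i.val))
      = (([(1, 2), (0, 1)] : List (ℕ × ℕ)).getD i.val (0, 1)).2) ⟨i, hi⟩

theorem simpF4 : ∀ i, i < chevF4.rank →
    chevF4.simple i < chevF4.nroots ∧ chevF4.neg (chevF4.simple i) < chevF4.nroots ∧
    dataF4.rh (chevF4.simple i)
      = chevF4.simple (([(3, 2), (2, 2), (1, 1), (0, 1)] : List (ℕ × ℕ)).getD i (0, 1)).1 ∧
    dataF4.lm (chevF4.simple i)
      = (([(3, 2), (2, 2), (1, 1), (0, 1)] : List (ℕ × ℕ)).getD i (0, 1)).2 ∧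
    dataF4.rh (chevF4.neg (chevF4.simple i))
      = chevF4.neg (chevF4.simple (([(3, 2), (2, 2), (1, 1), (0, 1)] : List (ℕ × ℕ)).getD i (0, 1)).1) ∧
    dataF4.lm (chevF4.neg (chevF4.simple i))
      = (([(3, 2), (2, 2), (1, 1), (0, 1)] : List (ℕ × ℕ)).getD i (0, 1)).2 := by
  intro i hi
  exact (by decide +kernel : ∀ i : Fin 4,
    chevF4.simple i.val < chevF4.nroots ∧ chevF4.neg (chevF4.simple i.val) < chevF4.nroots ∧
    dataF4.rh (chevF4.simple i.val)
      = chevF4.simple (([(3, 2), (2, 2), (1, 1), (0, 1)] : List (ℕ × ℕ)).getD i.val (0, 1)).1 ∧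
    dataF4.lm (chevF4.simple i.val)
      = (([(3, 2), (2, 2), (1, 1), (0, 1)] : List (ℕ × ℕ)).getD i.val (0, 1)).2 ∧
    dataF4.rh (chevF4.neg (chevF4.simple i.val))
      = chevF4.neg (chevF4.simple (([(3, 2), (2, 2), (1, 1), (0, 1)] : List (ℕ × ℕ)).getD i.val (0, 1)).1) ∧
    dataF4.lm (chevF4.neg (chevF4.simple i.val))
      = (([(3, 2), (2, 2), (1, 1), (0, 1)] : List (ℕ × ℕ)).getD i.val (0, 1)).2) ⟨i, hi⟩

/-- The graph automorphisms of `B₂` and `F₄` on the fundamental root elements. -/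
theorem graph_two [CharP F 2] (hperf : ∀ x : F, ∃ y, y ^ 2 = x)
    (p : ChevalleyDatum × List (ℕ × ℕ))
    (hp : p ∈ [(chevB2, [(1, 2), (0, 1)]), (chevF4, [(3, 2), (2, 2), (1, 1), (0, 1)])]) :
    ∃ α : ↥(p.1.group F) ≃* ↥(p.1.group F), ∀ (g : ↥(p.1.group F)) (i : ℕ) (t : F),
      i < p.1.rank →
      (((g : GL p.1.Idx F) : Matrix p.1.Idx p.1.Idx F) = p.1.x F (p.1.simple i) t →
        ((α g : GL p.1.Idx F) : Matrix p.1.Idx p.1.Idx F)
          = p.1.x F (p.1.simple (p.2.getD i (0, 1)).1) (t ^ (p.2.getD i (0, 1)).2)) ∧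
      (((g : GL p.1.Idx F) : Matrix p.1.Idx p.1.Idx F) = p.1.x F (p.1.neg (p.1.simple i)) t →
        ((α g : GL p.1.Idx F) : Matrix p.1.Idx p.1.Idx F)
          = p.1.x F (p.1.neg (p.1.simple (p.2.getD i (0, 1)).1)) (t ^ (p.2.getD i (0, 1)).2)) := by
  simp only [List.mem_cons, List.not_mem_nil, or_false] at hp
  rcases hp with rfl | rfl
  · obtain ⟨α, hα⟩ := autoB2 hperf
    refine ⟨α, fun g i t hi => ?_⟩
    obtain ⟨a1, a2, a3, a4, a5, a6⟩ := simpB2 i hi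
    refine ⟨fun hg => ?_, fun hg => ?_⟩
    · have := hα g _ t a1 hg
      rwa [a3, a4] at this
    · have := hα g _ t a2 hg
      rwa [a5, a6] at this
  · obtain ⟨α, hα⟩ := autoF4 hperf
    refine ⟨α, fun g i t hi => ?_⟩
    obtain ⟨a1, a2, a3, a4, a5, a6⟩ := simpF4 i hi
    refine ⟨fun hg => ?_, fun hg => ?_⟩
    · have := hα g _ t a1 hg
      rwa [a3, a4] at this
    · have := hα g _ t a2 hg
      rwa [a5, a6] at this

theorem simpG2 : dataG2.rh g2a = g2b ∧ dataG2.lm g2a = 3 ∧ dataG2.rh g2b = g2a ∧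
    dataG2.lm g2b = 1 ∧ dataG2.rh g2ma = g2mb ∧ dataG2.lm g2ma = 3 ∧ dataG2.rh g2mb = g2ma ∧
    dataG2.lm g2mb = 1 ∧ g2a < chevG2.nroots ∧ g2b < chevG2.nroots ∧ g2ma < chevG2.nroots ∧
    g2mb < chevG2.nroots := by decide +kernel

end Cfsg.Agent.H37.Isog
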