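import Cfsg.Agent.Chevalley.Model
import Cfsg.Agent.H37.Basic

/-!
Special isogenies (types B₂, F₄ in characteristic 2, G₂ in characteristic 3) from the ideal spanned
by the short root vectors: the action on the quotient is the action of the image root element on
the ideal. Injectivity of the action on the ideal is a hypothesis of the final theorem.
-/
set_option autoImplicit false

namespace Cfsg.Agent.H37.Isog

open Cfsg.Lie Cfsg.Lie.ChevalleyDatum Cfsg.Agent.Chevalley

/-- Tables: `e1` lists the coordinates spanning the ideal, `e2` the corresponding ones of the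
quotient, `rho` the root map, `lam` the exponents, `p` the characteristic. -/
structure Data where
  p : ℕ
  e1 : List ℕ
  e2 : List ℕ
  rho : List ℕ
  lam : List ℕ

namespace Data

variable (T : Data) (D : ChevalleyDatum)

def size : ℕ := T.e1.length
def c1 (a : ℕ) : ℕ := T.e1.getD a 0
def c2 (a : ℕ) : ℕ := T.e2.getD a 0
def rh (r : ℕ) : ℕ := T.rho.getD r 0
def lm (r : ℕ) : ℕ := T.lam.getD r 0

/-- Read a sparse vector along a coordinate list. -/
def pull (e : List ℕ) (v : SVec) : SVec :=
  v.filterMap fun q => if q.1 ∈ e then some (e.idxOf q.1, q.2) else none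

/-- All coefficients of a sparse vector are divisible by `p`. -/
def divB (p : ℕ) (v : SVec) : Bool := (nrm v).all fun q => q.2 % (p : ℤ) == 0

def negV (v : SVec) : SVec := v.map fun q => (q.1, (-1 : ℤ) * q.2)

def checkIdx : Bool :=
  decide (T.e2.length = T.size) && decide (2 * T.size = D.rank + D.nroots) &&
  decide ((T.e1 ++ T.e2).Nodup) && ((T.e1 ++ T.e2).all fun c => decide (c < D.rank + D.nroots))

def checkRow (r : ℕ) : Bool :=
  decide (T.rh r < D.nroots) && (T.rh (T.rh r) == r) && (T.lm r * T.lm (T.rh r) == T.p) &&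
  decide (T.lm r ∈ [1, 2, 3]) && decide (D.neg r < D.nroots) && !(D.neg r == r) &&
  decide (((D.chain.getD r #[]).toList.map Prod.fst).Nodup) &&
  ((D.chain.getD r #[]).toList.all fun e =>
    !(e.1 == r) && !(e.1 == D.neg r) && decide (e.2.toList.length ≤ 3)) &&
  ((List.range 4).all fun k => (List.range T.size).all fun b =>
    divB T.p (pull T.e2 (aCol D r k (T.c1 b))) &&
    divB T.p (pull T.e2 (aCol D r k (T.c2 b)) ++
      (if k % T.lm r = 0 then negV (pull T.e1 (aCol D (T.rh r) (k / T.lm r) (T.c1 b))) else [])) &&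
    (decide (k * T.lm r < 4) || divB T.p (pull T.e1 (aCol D (T.rh r) k (T.c1 b)))))

def check : Bool := T.checkIdx D && (List.range D.nroots).all (T.checkRow D)

end Data

/-- The checked tables. -/
structure Good (T : Data) (D : ChevalleyDatum) : Prop where
  ok : T.check D = true

variable {T : Data} {D : ChevalleyDatum}

lemma get_pull {e : List ℕ} (he : e.Nodup) (v : SVec) {a : ℕ} (ha : a < e.length) :
    get (Data.pull e v) a = get v (e.getD a 0) := by
  induction v with
  | nil => rfl
  | cons q v ih =>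
      unfold Data.pull at ih ⊢
      rw [List.filterMap_cons, get_cons]
      rw [List.getD_eq_getElem _ _ ha] at ih ⊢
      by_cases hq : q.1 ∈ e
      · simp only [hq, if_true, get_cons, ih]
        congr 1
        by_cases hqa : q.1 = e[a]
        · have : e.idxOf q.1 = a := by rw [hqa]; exact he.idxOf_getElem a ha
          rw [if_pos this, if_pos hqa]
        · have : e.idxOf q.1 ≠ a := fun h => hqa (by
            subst h; exact (List.getElem_idxOf ha).symm)
          simp [this, hqa]
      · have : q.1 ≠ e[a] := fun h => hq (h ▸ List.getElem_mem ha)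
        simp [hq, ih, this]

lemma dvd_get {p : ℕ} {v : SVec} (h : Data.divB p v = true) (i : ℕ) : (p : ℤ) ∣ get v i := by
  rw [← get_nrm, Chevalley.get]
  refine List.dvd_sum fun x hx => ?_
  obtain ⟨q, hq, rfl⟩ := List.mem_map.1 hx
  simp only [Data.divB, List.all_eq_true, beq_iff_eq] at h
  split
  · exact Int.dvd_of_emod_eq_zero (h q hq)
  · exact dvd_zero _

namespace Good

variable (hT : Good T D)
include hT

lemma idx_spec : T.e2.length = T.size ∧ 2 * T.size = D.rank + D.nroots ∧ (T.e1 ++ T.e2).Nodup ∧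
    ∀ c ∈ T.e1 ++ T.e2, c < D.rank + D.nroots := by
  have := hT.ok
  simp only [Data.check, Data.checkIdx, Bool.and_eq_true, decide_eq_true_eq, List.all_eq_true]
    at this
  exact ⟨this.1.1.1.1, this.1.1.1.2, this.1.1.2, this.1.2⟩

lemma row {r : ℕ} (hr : r < D.nroots) : T.checkRow D r = true := by
  have := hT.ok
  simp only [Data.check, Bool.and_eq_true, List.all_eq_true, List.mem_range] at this
  exact this.2 r hr

lemma root_spec {r : ℕ} (hr : r < D.nroots) : T.rh r < D.nroots ∧ T.rh (T.rh r) = r ∧
    T.lm r * T.lm (T.rh r) = T.p ∧ T.lm r ∈ [1, 2, 3] ∧ RowOK D r ∧ D.neg r ≠ r := by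
  have := hT.row hr
  simp only [Data.checkRow, Bool.and_eq_true, decide_eq_true_eq, beq_iff_eq, Bool.not_eq_true',
    beq_eq_false_iff_ne] at this
  obtain ⟨⟨⟨⟨⟨⟨⟨⟨h1, h2⟩, h3⟩, h4⟩, -⟩, h5⟩, h6⟩, h7⟩, -⟩ := this
  simp only [List.all_eq_true, Bool.and_eq_true, decide_eq_true_eq, Bool.not_eq_true',
    beq_eq_false_iff_ne] at h7
  refine ⟨h1, h2, h3, h4, ⟨h6, fun s => ?_, fun e he => ⟨(h7 e he).1.1, (h7 e he).1.2⟩⟩, h5⟩
  unfold ChevalleyDatum.chainEntry
  split
  · simp
  · next e he => exact (h7 e (List.mem_of_find?_eq_some he)).2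

omit hT in
/-- The coordinate with a given number. -/
noncomputable def coord (j : Fin (D.rank + D.nroots)) : D.Idx :=
  Classical.choose (exists_idxNat (D := D) j.isLt)

omit hT in
lemma idxNat_coord (j : Fin (D.rank + D.nroots)) : idxNat (coord j) = j.val :=
  Classical.choose_spec (exists_idxNat (D := D) j.isLt)

lemma c1_mem (a : Fin T.size) : T.c1 a ∈ T.e1 := by
  rw [Data.c1, List.getD_eq_getElem _ _ a.isLt]; exact List.getElem_mem _

lemma c2_mem (a : Fin T.size) : T.c2 a ∈ T.e2 := by
  rw [Data.c2, List.getD_eq_getElem _ _ (by rw [hT.idx_spec.1]; exact a.isLt)]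
  exact List.getElem_mem _

/-- Both lists of coordinates. -/
noncomputable def splitFun : Fin T.size ⊕ Fin T.size → D.Idx :=
  Sum.elim
    (fun a => coord ⟨T.c1 a, hT.idx_spec.2.2.2 _ (List.mem_append_left _ (hT.c1_mem a))⟩)
    (fun a => coord ⟨T.c2 a, hT.idx_spec.2.2.2 _ (List.mem_append_right _ (hT.c2_mem a))⟩)

lemma splitFun_bijective : Function.Bijective hT.splitFun := by
  rw [Fintype.bijective_iff_injective_and_card]
  refine ⟨fun x y h => ?_, by simp [← two_mul, hT.idx_spec.2.1]⟩
  have h1 : T.e1.Nodup := hT.idx_spec.2.2.1.of_append_left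
  have h2 : T.e2.Nodup := hT.idx_spec.2.2.1.of_append_right
  have h3 : ∀ c ∈ T.e1, c ∉ T.e2 := fun c hc hc' =>
    (List.nodup_append.1 hT.idx_spec.2.2.1).2.2 c hc c hc' rfl
  have h' := congrArg idxNat h
  rcases x with a | a <;> rcases y with b | b <;>
    simp only [splitFun, Sum.elim_inl, Sum.elim_inr, idxNat_coord] at h'
  · congr 1
    simp only [Data.c1, List.getD_eq_getElem _ _ a.isLt, List.getD_eq_getElem _ _ b.isLt] at h'
    exact Fin.ext (h1.getElem_inj_iff.1 h')
  · exact absurd (h' ▸ hT.c2_mem b) (h3 _ (hT.c1_mem a))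
  · exact absurd (h' ▸ hT.c2_mem a) (h3 _ (hT.c1_mem b))
  · congr 1
    have ha : a.val < T.e2.length := by rw [hT.idx_spec.1]; exact a.isLt
    have hb : b.val < T.e2.length := by rw [hT.idx_spec.1]; exact b.isLt
    simp only [Data.c2, List.getD_eq_getElem _ _ ha, List.getD_eq_getElem _ _ hb] at h'
    exact Fin.ext (h2.getElem_inj_iff.1 h')

/-- The splitting of the coordinates. -/
noncomputable def split : Fin T.size ⊕ Fin T.size ≃ D.Idx :=
  Equiv.ofBijective hT.splitFun hT.splitFun_bijective

lemma split_inl (a : Fin T.size) : idxNat (hT.split (.inl a)) = T.c1 a := by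
  simp [split, splitFun, idxNat_coord]

lemma split_inr (a : Fin T.size) : idxNat (hT.split (.inr a)) = T.c2 a := by
  simp [split, splitFun, idxNat_coord]

variable {F : Type*} [Field F] [CharP F T.p]

lemma entries {r : ℕ} (hr : r < D.nroots) {k : ℕ} (hk : k < 4) (a b : Fin T.size) :
    ((aMat D r k (hT.split (.inr a)) (hT.split (.inl b)) : ℤ) : F) = 0 ∧
    ((aMat D r k (hT.split (.inr a)) (hT.split (.inr b)) : ℤ) : F) =
      (if k % T.lm r = 0 then
        ((aMat D (T.rh r) (k / T.lm r) (hT.split (.inl a)) (hT.split (.inl b)) : ℤ) : F) else 0) ∧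
    (4 ≤ k * T.lm r →
      ((aMat D (T.rh r) k (hT.split (.inl a)) (hT.split (.inl b)) : ℤ) : F) = 0) := by
  have := hT.row hr
  simp only [Data.checkRow, Bool.and_eq_true] at this
  have h := this.2
  simp only [List.all_eq_true, List.mem_range, Bool.and_eq_true, Bool.or_eq_true,
    decide_eq_true_eq] at h
  obtain ⟨⟨h1, h2⟩, h3⟩ := h k hk b b.isLt
  have hn1 : T.e1.Nodup := hT.idx_spec.2.2.1.of_append_left
  have hn2 : T.e2.Nodup := hT.idx_spec.2.2.1.of_append_right
  have ha2 : a.val < T.e2.length := hT.idx_spec.1.symm ▸ a.isLt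
  have e2get : ∀ v, get (Data.pull T.e2 v) a = get v (idxNat (hT.split (.inr a))) := fun v => by
    rw [get_pull hn2 v ha2, hT.split_inr]; rfl
  have e1get : ∀ v, get (Data.pull T.e1 v) a = get v (idxNat (hT.split (.inl a))) := fun v => by
    rw [get_pull hn1 v a.isLt, hT.split_inl]; rfl
  refine ⟨?_, ?_, fun hk4 => ?_⟩
  · rw [CharP.intCast_eq_zero_iff F T.p, aMat_eq_get, ← e2get, hT.split_inl]
    exact dvd_get h1 _
  · have := dvd_get h2 a.val
    by_cases hm : k % T.lm r = 0
    · simp only [hm, if_true, get_append, Data.negV, get_scale, e2get, e1get] at this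
      rw [if_pos hm, ← sub_eq_zero, ← Int.cast_sub, CharP.intCast_eq_zero_iff F T.p, aMat_eq_get,
        aMat_eq_get, hT.split_inr b, hT.split_inl b]
      convert this using 1
      ring
    · simp only [hm, if_false, List.append_nil, e2get] at this
      rw [if_neg hm, CharP.intCast_eq_zero_iff F T.p, aMat_eq_get, hT.split_inr b]
      exact this
  · rcases h3 with h3 | h3
    · omega
    · rw [CharP.intCast_eq_zero_iff F T.p, aMat_eq_get, ← e1get, hT.split_inl]
      exact dvd_get h3 _

lemma x_lower {r : ℕ} (hr : r < D.nroots) (t : F) (a b : Fin T.size) :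
    D.x F r t (hT.split (.inr a)) (hT.split (.inl b)) = 0 := by
  rw [(hT.root_spec hr).2.2.2.2.1.x_eq hr (hT.root_spec hr).2.2.2.2.2]
  simp only [xR, Matrix.of_apply]
  refine Finset.sum_eq_zero fun k hk => ?_
  rw [(hT.entries hr (Finset.mem_range.1 hk) a b).1, zero_mul]

lemma x_quot {r : ℕ} (hr : r < D.nroots) (t : F) (a b : Fin T.size) :
    D.x F r t (hT.split (.inr a)) (hT.split (.inr b))
      = D.x F (T.rh r) (t ^ T.lm r) (hT.split (.inl a)) (hT.split (.inl b)) := by
  obtain ⟨hr', -, -, hlm, hok, hne⟩ := hT.root_spec hr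
  rw [hok.x_eq hr hne, (hT.root_spec hr').2.2.2.2.1.x_eq hr' (hT.root_spec hr').2.2.2.2.2]
  have e := fun k (hk : k < 4) => hT.entries (F := F) hr hk a b
  simp only [xR, Matrix.of_apply, Finset.sum_range_succ, Finset.sum_range_zero, zero_add,
    (e 0 (by omega)).2.1, (e 1 (by omega)).2.1, (e 2 (by omega)).2.1, (e 3 (by omega)).2.1]
  simp only [List.mem_cons, List.not_mem_nil, or_false] at hlm
  rcases hlm with h | h | h
  · simp [h]
  · have h2 := (e 2 (by omega)).2.2 (by omega)
    have h3 := (e 3 (by omega)).2.2 (by omega)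
    simp [h, h2, h3]
  · have h2 := (e 2 (by omega)).2.2 (by omega)
    have h3 := (e 3 (by omega)).2.2 (by omega)
    simp [h, h2, h3]

omit [CharP F T.p] in
/-- The stabiliser of the ideal. -/
noncomputable def stab (F : Type*) [Field F] : Subgroup (GL D.Idx F) where
  carrier := {g | Matrix.BlockTriangular (g : Matrix D.Idx D.Idx F)
    (fun x => (hT.split.symm x).isRight)}
  one_mem' := by simpa using Matrix.blockTriangular_one
  mul_mem' := fun hg hh => by simpa using hg.mul hh
  inv_mem' := fun {g} hg => by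
    let i := g.invertible
    simpa [Matrix.coe_units_inv] using Matrix.blockTriangular_inv_of_blockTriangular hg

lemma x_mem_stab (hO : Ordered D) (r : ℕ) (t : F) : xGL hO r t ∈ hT.stab F := by
  by_cases hr : r < D.nroots
  · intro x y hxy
    show D.x F r t x y = 0
    obtain ⟨u, rfl⟩ := hT.split.surjective x
    obtain ⟨v, rfl⟩ := hT.split.surjective y
    rcases u with a | a <;> rcases v with b | b <;> simp [Bool.lt_iff] at hxy
    exact hT.x_lower hr t a b
  · rw [xGL_of_le hO (by omega)]; exact one_mem _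

lemma group_le_stab (hO : Ordered D) : D.group F ≤ hT.stab F := by
  refine (Subgroup.closure_le _).2 ?_
  rintro g ⟨r, t, hg⟩
  rw [show g = xGL hO r.val t from Units.ext (hg.trans (x_eq_xMat r.isLt t).symm)]
  exact hT.x_mem_stab hO _ _

omit [CharP F T.p] in
lemma stab_lower (g : ↥(hT.stab F)) (a b : Fin T.size) :
    ((g : GL D.Idx F) : Matrix D.Idx D.Idx F) (hT.split (.inr a)) (hT.split (.inl b)) = 0 :=
  g.2 (by simp)

omit [CharP F T.p] in
/-- Action on the ideal. -/
noncomputable def onIdeal (F : Type*) [Field F] :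
    ↥(hT.stab F) →* GL (Fin T.size) F :=
  MonoidHom.toHomUnits
    { toFun := fun g => Matrix.of fun a b =>
        ((g : GL D.Idx F) : Matrix D.Idx D.Idx F) (hT.split (.inl a)) (hT.split (.inl b))
      map_one' := by ext a b; simp [Matrix.one_apply]
      map_mul' := fun g h => by
        ext a b
        simp only [Matrix.of_apply, Subgroup.coe_mul, Units.val_mul, Matrix.mul_apply]
        rw [← hT.split.sum_comp, Fintype.sum_sum_type]
        simp [hT.stab_lower h] }

omit [CharP F T.p] in
/-- Action on the quotient, in the coordinates of the ideal. -/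
noncomputable def onQuot (F : Type*) [Field F] :
    ↥(hT.stab F) →* GL (Fin T.size) F :=
  MonoidHom.toHomUnits
    { toFun := fun g => Matrix.of fun a b =>
        ((g : GL D.Idx F) : Matrix D.Idx D.Idx F) (hT.split (.inr a)) (hT.split (.inr b))
      map_one' := by ext a b; simp [Matrix.one_apply]
      map_mul' := fun g h => by
        ext a b
        simp only [Matrix.of_apply, Subgroup.coe_mul, Units.val_mul, Matrix.mul_apply]
        rw [← hT.split.sum_comp, Fintype.sum_sum_type]
        simp [hT.stab_lower g] }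

/-- Action of the Chevalley group on the ideal. -/
noncomputable def idealHom (hO : Ordered D) : ↥(D.group F) →* GL (Fin T.size) F :=
  (hT.onIdeal F).comp (Subgroup.inclusion (hT.group_le_stab hO))

/-- Action of the Chevalley group on the quotient. -/
noncomputable def quotHom (hO : Ordered D) : ↥(D.group F) →* GL (Fin T.size) F :=
  (hT.onQuot F).comp (Subgroup.inclusion (hT.group_le_stab hO))

/-- The quotient action of `x_r(t)` is the ideal action of `x_ρr(t^λ)`. -/
lemma quotHom_x (hO : Ordered D) {r : ℕ} (hr : r < D.nroots) (t : F) :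
    hT.quotHom hO (⟨xGL hO r t, xGL_mem_group hO r t⟩ : ↥(D.group F))
      = hT.idealHom hO ⟨xGL hO (T.rh r) (t ^ T.lm r), xGL_mem_group hO _ _⟩ := by
  ext a b
  exact hT.x_quot hr t a b

omit hT [CharP F T.p] in
/-- The root elements, as elements of the group, generate it. -/
lemma closure_x (hO : Ordered D) : Subgroup.closure
    {g : ↥(D.group F) | ∃ r t, r < D.nroots ∧ g = ⟨xGL hO r t, xGL_mem_group hO r t⟩} = ⊤ := by
  rw [eq_top_iff]
  rintro ⟨g, hg⟩ -
  unfold ChevalleyDatum.group at hg
  induction hg using Subgroup.closure_induction with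
  | mem g hg =>
      obtain ⟨r, t, hg⟩ := hg
      refine Subgroup.subset_closure ⟨r.val, t, r.isLt, Subtype.ext (Units.ext ?_)⟩
      exact hg.trans (x_eq_xMat r.isLt t).symm
  | one => exact one_mem _
  | mul a b ha hb iha ihb => exact mul_mem iha ihb
  | inv a ha iha => exact inv_mem iha

/-- The special isogeny, given injectivity of the action on the ideal and a perfect field. -/
theorem exists_isogeny (hO : Ordered D) (hp : T.p.Prime)
    (hinj : Function.Injective (hT.idealHom (F := F) hO)) (hperf : ∀ x : F, ∃ y, y ^ T.p = x) :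
    ∃ α : ↥(D.group F) ≃* ↥(D.group F), ∀ (g : ↥(D.group F)) (r : ℕ) (t : F), r < D.nroots →
      ((g : GL D.Idx F) : Matrix D.Idx D.Idx F) = D.x F r t →
      ((α g : GL D.Idx F) : Matrix D.Idx D.Idx F) = D.x F (T.rh r) (t ^ T.lm r) := by
  have hle : ∀ g, hT.quotHom (F := F) hO g ∈ (hT.idealHom (F := F) hO).range := by
    intro g
    have hg : g ∈ Subgroup.closure
        {g : ↥(D.group F) | ∃ r t, r < D.nroots ∧ g = ⟨xGL hO r t, xGL_mem_group hO r t⟩} := by
      rw [closure_x hO]; trivial
    induction hg using Subgroup.closure_induction with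
    | mem g hg =>
        obtain ⟨r, t, hr, rfl⟩ := hg
        rw [hT.quotHom_x hO hr]
        exact ⟨_, rfl⟩
    | one => simp
    | mul a b _ _ iha ihb => rw [map_mul]; exact mul_mem iha ihb
    | inv a _ iha => rw [map_inv]; exact inv_mem iha
  let α : ↥(D.group F) →* ↥(D.group F) :=
    (MonoidHom.ofInjective hinj).symm.toMonoidHom.comp ((hT.quotHom hO).codRestrict _ hle)
  have hα : ∀ r t, r < D.nroots → α ⟨xGL hO r t, xGL_mem_group hO r t⟩
      = ⟨xGL hO (T.rh r) (t ^ T.lm r), xGL_mem_group hO _ _⟩ := by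
    intro r t hr
    show (MonoidHom.ofInjective hinj).symm _ = _
    rw [MulEquiv.symm_apply_eq]
    exact Subtype.ext (hT.quotHom_x hO hr t)
  haveI : ExpChar F T.p := ExpChar.prime hp
  let φ : GL D.Idx F →* GL D.Idx F := Units.map (frobenius F T.p).mapMatrix.toMonoidHom
  have hφ : Function.Injective φ :=
    Units.map_injective fun A B h => Matrix.ext fun i j =>
      frobenius_inj F T.p (congrFun (congrFun h i) j)
  have hαα : ∀ g : ↥(D.group F), ((α (α g) : ↥(D.group F)) : GL D.Idx F) = φ g := by
    intro g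
    have hg : g ∈ Subgroup.closure
        {g : ↥(D.group F) | ∃ r t, r < D.nroots ∧ g = ⟨xGL hO r t, xGL_mem_group hO r t⟩} := by
      rw [closure_x hO]; trivial
    induction hg using Subgroup.closure_induction with
    | mem g hg =>
        obtain ⟨r, t, hr, rfl⟩ := hg
        obtain ⟨hr', hinv, hlm, -⟩ := hT.root_spec hr
        rw [hα r t hr, hα _ _ hr', hinv, ← pow_mul, hlm]
        exact Units.ext (x_map (frobenius F T.p) r t).symm
    | one => simp
    | mul a b _ _ iha ihb => simp [iha, ihb]
    | inv a _ iha => simp [iha]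
  have hinjα : Function.Injective α := fun a b h =>
    Subtype.ext (hφ (by rw [← hαα, ← hαα, h]))
  have hsurj : Function.Surjective α := by
    rw [← MonoidHom.range_eq_top, eq_top_iff, ← closure_x hO, Subgroup.closure_le]
    rintro _ ⟨r, t, hr, rfl⟩
    obtain ⟨hr', hinv, hlm, hmem, -⟩ := hT.root_spec hr
    obtain ⟨y, hy⟩ := hperf t
    refine ⟨⟨xGL hO (T.rh r) (y ^ T.lm r), xGL_mem_group hO _ _⟩, ?_⟩
    rw [hα _ _ hr']
    exact Subtype.ext (by rw [← pow_mul, hlm, hinv, hy])
  refine ⟨MulEquiv.ofBijective α ⟨hinjα, hsurj⟩, fun g r t hr hg => ?_⟩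
  have : g = ⟨xGL hO r t, xGL_mem_group hO r t⟩ := Subtype.ext (Units.ext hg)
  rw [this]
  show ((α ⟨xGL hO r t, xGL_mem_group hO r t⟩ : GL D.Idx F) : Matrix D.Idx D.Idx F) = _
  rw [hα r t hr]
  rfl

end Good

end Cfsg.Agent.H37.Isog
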