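import Cfsg.Agent.H37.Isog.Basic
import Cfsg.Agent.H37.Chev.Result
import Cfsg.Agent.S0319

/-!
The action on the ideal of short root vectors is faithful: a normal subgroup outside the core of
the Borel subgroup would force the image of a fundamental monomial element to be triangular.
-/
set_option autoImplicit false

namespace Cfsg.Agent.H37.Isog.Good

open Cfsg.Lie Cfsg.Agent.Chevalley

variable {T : Data} {D : ChevalleyDatum} (hT : Good T D) {F : Type*} [Field F] [CharP F T.p]
  (Q : Chev.Data D F)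

include hT in
omit [CharP F T.p] in
/-- A Borel element is triangular for the ranks. -/
theorem borel_tri {b : ↥(D.group F)} (hb : b ∈ Q.amb.B) {x y : D.Idx} (hxy : x ≠ y)
    (h1 : ((b : GL D.Idx F) : Matrix D.Idx D.Idx F) x y ≠ 0) :
    ((b : GL D.Idx F) : Matrix D.Idx D.Idx F) y x = 0 := by
  obtain ⟨u, hu, h, hh, rfl⟩ := hb
  have hu' : (u : GL D.Idx F) ∈ D.posUnipotent F := by
    have := hu; rwa [Q.amb_U] at this
  have hr : Raises (rk D) 1 (((u : GL D.Idx F) : Matrix D.Idx D.Idx F) - 1) :=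
    posUnipotent_le_uni Q.ord hu'
  have hdiag := Q.T.off (h : GL D.Idx F) (by have := hh; exact this)
  have e : ∀ a c, ((↑(u * h) : GL D.Idx F) : Matrix D.Idx D.Idx F) a c
      = ((u : GL D.Idx F) : Matrix D.Idx D.Idx F) a c *
        ((h : GL D.Idx F) : Matrix D.Idx D.Idx F) c c := by
    intro a c
    simp only [Subgroup.coe_mul, Units.val_mul, Matrix.mul_apply]
    exact Finset.sum_eq_single c (fun d _ hd => by rw [hdiag d c hd, mul_zero]) (by simp)
  rw [e] at h1 ⊢
  have hxne : (((u : GL D.Idx F) : Matrix D.Idx D.Idx F) - 1) x y ≠ 0 := by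
    rw [Matrix.sub_apply, Matrix.one_apply_ne hxy, sub_zero]
    exact left_ne_zero_of_mul h1
  by_contra hne
  have hyne : (((u : GL D.Idx F) : Matrix D.Idx D.Idx F) - 1) y x ≠ 0 := by
    rw [Matrix.sub_apply, Matrix.one_apply_ne (Ne.symm hxy), sub_zero]
    exact left_ne_zero_of_mul hne
  have e1 := hr x y hxne
  have e2 := hr y x hyne
  omega

include hT in
/-- Two distinct ideal coordinates exchanged by a fundamental monomial element give faithfulness. -/
theorem injective {i a b : ℕ} (hi : i < Q.X.n) (ha : a < T.size) (hb : b < T.size)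
    {r : ℕ} (hr : r < D.nroots) (hra : T.c1 a = D.rank + r) (hrb : T.c1 b = D.rank + Q.K.w i r)
    (hne : Q.K.w i r ≠ r) :
    Function.Injective (hT.idealHom (F := F) Q.ord) := by
  classical
  set f := hT.idealHom (F := F) Q.ord
  rw [← MonoidHom.ker_eq_bot_iff]
  by_contra hker
  have hirr : Q.amb.pair.Irreducible := Q.amb.pair_irreducible Q.irred
  set S' := {s ∈ Q.amb.pair.S | s ∈ Q.amb.pair.B ⊔ f.ker}
  have hmem : Q.sys.ns i ∈ Q.amb.pair.B ⊔ f.ker := by
    by_cases hJ : S'.Nonempty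
    · have hall : Q.amb.pair.S ⊆ S' := by
        by_contra hn
        obtain ⟨s, hs, s', hs', h⟩ := hirr S' (fun s hs => hs.1) hJ (Set.sdiff_nonempty.2 hn)
        exact h (Cfsg.Agent.S0319.commute_of_normal Q.amb.pair hs.1 hs'.1 hs.2
          (fun hm => hs'.2 ⟨hs'.1, hm⟩))
      have htop : Q.amb.pair.B ⊔ f.ker = ⊤ := by
        rw [eq_top_iff, ← H28.parabolic_S (P := Q.amb.pair)]
        exact sup_le le_sup_left ((Subgroup.closure_le _).2 fun s hs => (hall hs).2)
      rw [htop]; trivial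
    · exfalso
      apply hker
      have hle : Q.amb.pair.B ⊔ f.ker = Q.amb.pair.B := by
        rw [H28.eq_parabolic (le_sup_left : Q.amb.pair.B ≤ Q.amb.pair.B ⊔ f.ker),
          show {s | s ∈ Q.amb.pair.S ∧ s ∈ Q.amb.pair.B ⊔ f.ker} = (∅ : Set _) from
            Set.not_nonempty_iff_eq_empty.1 hJ]
        simp [Cfsg.BNPair.parabolic]
      refine eq_bot_iff.2 ?_
      rw [← Q.core_eq_bot, Subgroup.normal_le_normalCore]
      exact le_sup_right.trans hle.le
  obtain ⟨c, hc, k, hk, e⟩ := Subgroup.mem_sup_of_normal_right.1 hmem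
  have hent : ∀ x y : Fin T.size,
      (((Q.sys.ns i : ↥(D.group F)) : GL D.Idx F) : Matrix D.Idx D.Idx F)
          (hT.split (.inl x)) (hT.split (.inl y))
        = ((c : GL D.Idx F) : Matrix D.Idx D.Idx F) (hT.split (.inl x)) (hT.split (.inl y)) := by
    intro x y
    have hf : f (Q.sys.ns i) = f c := by
      rw [← e, map_mul, MonoidHom.mem_ker.1 hk, mul_one]
    exact congrArg (fun g : GL (Fin T.size) F => (g : Matrix (Fin T.size) (Fin T.size) F) x y) hf
  have hi' : i < D.rank := Q.rank_eq ▸ hi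
  have hw := Q.K.w_lt i hi' r hr
  have hns : (((Q.sys.ns i : ↥(D.group F)) : GL D.Idx F) : Matrix D.Idx D.Idx F)
      = Q.K.nR F i := Q.K.coe_nS F hi'
  have hx : hT.split (.inl ⟨a, ha⟩) = .inr ⟨r, hr⟩ :=
    idxNat_inj (by rw [hT.split_inl]; exact hra)
  have hy : hT.split (.inl ⟨b, hb⟩) = .inr ⟨Q.K.w i r, hw.1⟩ :=
    idxNat_inj (by rw [hT.split_inl]; exact hrb)
  have hpm : ∀ s, ((Q.K.sg i s : ℤ) : F) ≠ 0 := fun s => by
    rcases Q.K.sg_pm i s with h | h <;> simp [h]
  have h1 := hent ⟨a, ha⟩ ⟨b, hb⟩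
  have h2 := hent ⟨b, hb⟩ ⟨a, ha⟩
  rw [hx, hy, hns] at h1 h2
  simp only [Chevalley.Cert.nR, Matrix.map_apply, Chevalley.Cert.nMatZ_rr, hw.2, if_true] at h1 h2
  exact hpm r (h2.trans (borel_tri hT Q hc (fun h => hne (congrArg Fin.val (Sum.inr_injective h)).symm)
    (h1 ▸ hpm _)))

end Cfsg.Agent.H37.Isog.Good
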